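import Cfsg.Agent.H214.S69.Defs

/-!
# S3469, task T9 (helper326 for helper214): a semisimilitude with companion of order 2 gives a reflection-like element

* `o_two` : a group of semisimilitudes of the minus form in dimension 8 which contains an element with a companion
  automorphism of order 2 contains an isometry of determinant `-1`.
-/

set_option autoImplicit false

namespace Cfsg.Agent.H326.S69

open Cfsg Cfsg.Agent.H903.SylSemi Cfsg.Agent.H214.S69 Cfsg.Agent Matrix

universe u

section field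

variable {F : Type*} [Field F] [Fintype F]

/-- the fixed elements of an automorphism of order two are squares -/
theorem isSquare_of_fixed (ho : Odd (Fintype.card F)) {θ : F ≃+* F} (hθ : orderOf θ = 2) {f : F} (hf : θ f = f) :
    IsSquare f := by
  classical
  by_cases hf0 : f = 0
  · rw [hf0]; exact IsSquare.zero
  have h2 : ringChar F ≠ 2 := by
    intro h
    have h3 := FiniteField.even_card_of_char_two h
    have h4 := Nat.odd_iff.1 ho
    omega
  let Z := Subgroup.zpowers θ
  have hZ : Nat.card Z = 2 := by rw [Nat.card_zpowers, hθ]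
  have : Finite (F ≃+* F) := Finite.of_injective (fun s : F ≃+* F => (s : F → F)) DFunLike.coe_injective
  have : Finite Z := Subtype.finite
  have : Fintype Z := Fintype.ofFinite Z
  have hZf : Fintype.card Z = 2 := by rw [← Nat.card_eq_fintype_card, hZ]
  let K := FixedPoints.subfield Z F
  have hfr : Module.finrank K F = 2 := by
    rw [FixedPoints.finrank_eq_card Z F, hZf]
  have hcard : Fintype.card F = Fintype.card K ^ 2 := by
    rw [Module.card_eq_pow_finrank (K := K) (V := F), hfr]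
  have hfK : f ∈ K := by
    intro z
    obtain ⟨n, hn⟩ := Subgroup.mem_zpowers_iff.1 z.2
    have h3 : ∀ m : ℕ, (θ ^ m) f = f := by
      intro m
      induction m with
      | zero => rfl
      | succ m ih => rw [pow_succ, RingAut.mul_apply, hf, ih]
    have h4 : ((z : RingAut F)) f = f := by
      rw [← hn]
      obtain ⟨m, rfl | rfl⟩ := n.eq_nat_or_neg
      · rw [_root_.zpow_natCast]; exact h3 m
      · rw [_root_.zpow_neg, _root_.zpow_natCast]
        have h5 : (θ ^ m)⁻¹ ((θ ^ m) f) = f := by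
          rw [← RingAut.mul_apply, inv_mul_cancel]; rfl
        rwa [h3 m] at h5
    exact h4
  have h5 : f ^ Fintype.card K = f := by
    have h6 := FiniteField.pow_card (K := K) ⟨f, hfK⟩
    exact congrArg Subtype.val h6
  have hK0 : 0 < Fintype.card K := Fintype.card_pos
  have h6 : f ^ (Fintype.card K - 1) = 1 := by
    have h7 : f ^ (Fintype.card K - 1) * f = 1 * f := by
      rw [← pow_succ, Nat.sub_add_cancel hK0, h5, one_mul]
    exact mul_right_cancel₀ hf0 h7
  rw [FiniteField.isSquare_iff h2 hf0]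
  have hodd : Odd (Fintype.card K) := by
    rw [hcard] at ho
    exact (Nat.odd_pow_iff (by norm_num)).1 ho
  obtain ⟨k, hk⟩ := hodd
  have h8 : Fintype.card F / 2 = (Fintype.card K - 1) * (k + 1) := by
    rw [hcard, hk]
    have h9 : (2 * k + 1) ^ 2 = 2 * ((2 * k + 1 - 1) * (k + 1)) + 1 := by
      rw [Nat.add_sub_cancel]; ring
    omega
  rw [h8, pow_mul, h6, one_pow]

/-- Hilbert 90 for an automorphism of order two -/
theorem exists_quot {θ : F ≃+* F} (hθ : orderOf θ = 2) {d : F} (hd : d * θ d = 1) : ∃ h : F, h ≠ 0 ∧ θ h = h * d := by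
  have hθ2 : ∀ x, θ (θ x) = x := by
    intro x
    have h1 : θ ^ 2 = 1 := by rw [← hθ]; exact pow_orderOf_eq_one θ
    have h2 := congrArg (fun s : F ≃+* F => s x) h1
    rw [pow_two] at h2
    exact h2
  by_cases h1 : d = -1
  · obtain ⟨x, hx⟩ : ∃ x, θ x ≠ x := by
      by_contra hcon
      push_neg at hcon
      have h3 : θ = 1 := by
        ext x
        exact hcon x
      rw [h3, orderOf_one] at hθ
      omega
    refine ⟨x - θ x, sub_ne_zero.2 (Ne.symm hx), ?_⟩
    rw [map_sub, hθ2, h1]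
    ring
  · refine ⟨1 + θ d, ?_, ?_⟩
    · intro h2
      apply h1
      have h3 : θ d = -1 := by linear_combination h2
      have h4 := hθ2 d
      rw [h3, map_neg, map_one] at h4
      exact h4.symm
    · rw [map_add, map_one, hθ2]
      linear_combination -hd

end field

section gram

variable {F : Type*} [Field F]

/-- the Gram matrix of the polar form -/
def gram (a b : F) : Matrix ((Fin 3 ⊕ Fin 3) ⊕ Fin 2) ((Fin 3 ⊕ Fin 3) ⊕ Fin 2) F :=
  fromBlocks (fromBlocks 0 1 1 0) 0 0 !![2, a; a, 2 * b]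

theorem gram_spec (a b : F) (u v : (Fin 3 ⊕ Fin 3) ⊕ Fin 2 → F) :
    quadFormMinus 3 F a b (u + v) - quadFormMinus 3 F a b u - quadFormMinus 3 F a b v =
      u ⬝ᵥ (gram a b).mulVec v := by
  simp only [quadFormMinus, gram, dotProduct, mulVec, Fintype.sum_sum_type, Fin.sum_univ_three, Fin.sum_univ_two,
    fromBlocks_apply₁₁, fromBlocks_apply₁₂, fromBlocks_apply₂₁, fromBlocks_apply₂₂, Pi.add_apply, Matrix.zero_apply,
    Matrix.one_apply, Matrix.of_apply, Matrix.cons_val', Matrix.cons_val_zero, Matrix.cons_val_one]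
  simp
  ring

theorem det_swap : (fromBlocks 0 1 1 0 : Matrix (Fin 3 ⊕ Fin 3) (Fin 3 ⊕ Fin 3) F).det = -1 := by
  have h1 : (fromBlocks 0 1 1 0 : Matrix (Fin 3 ⊕ Fin 3) (Fin 3 ⊕ Fin 3) F) =
      (1 : Matrix (Fin 3 ⊕ Fin 3) (Fin 3 ⊕ Fin 3) F).submatrix (Equiv.sumComm (Fin 3) (Fin 3)) id := by
    ext i j
    rcases i with i | i <;> rcases j with j | j <;> simp [Matrix.one_apply]
  rw [h1, Matrix.det_permute, Matrix.det_one, mul_one]
  have h2 : Equiv.Perm.sign (Equiv.sumComm (Fin 3) (Fin 3) : Equiv.Perm (Fin 3 ⊕ Fin 3)) = -1 := by decide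
  rw [h2]
  simp

theorem det_gram (a b : F) : (gram a b).det = a ^ 2 - 4 * b := by
  rw [gram, det_fromBlocks_zero₂₁, det_swap, det_fin_two_of]
  ring

end gram

/-- the discriminant of the anisotropic form -/
theorem not_isSquare {F : Type*} [Field F] [Fintype F] (ho : Odd (Fintype.card F)) {a b : F} (hab : Aniso a b) :
    ¬ IsSquare (a ^ 2 - 4 * b) := by
  rintro ⟨r, hr⟩
  have h2 : (2 : F) ≠ 0 := by
    apply Ring.two_ne_zero
    intro h
    have h3 := FiniteField.even_card_of_char_two h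
    have h4 := Nat.odd_iff.1 ho
    omega
  have h3 := hab (r - a) 2 (by linear_combination -hr)
  exact h2 h3.2

/-- the matrix of a semilinear map -/
def mat {F : Type*} [Field F] {ι : Type*} [DecidableEq ι] (y : Equiv.Perm (ι → F)) : Matrix ι ι F :=
  Matrix.of fun k i => y (Pi.single i 1) k

theorem mat_spec {F : Type*} [Field F] {ι : Type*} [Fintype ι] [DecidableEq ι] {y : Equiv.Perm (ι → F)} {θ : F ≃+* F}
    (hy : Semi F y θ) (v : ι → F) : y v = (mat y).mulVec (fun i => θ (v i)) := by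
  have h0 : y 0 = 0 := by
    have h1 := hy.1 0 0
    rw [add_zero] at h1
    exact left_eq_add.1 h1
  let f : (ι → F) →+ (ι → F) := { toFun := y, map_zero' := h0, map_add' := hy.1 }
  have h1 : v = ∑ i, v i • (Pi.single i 1 : ι → F) := (pi_eq_sum_univ' v).trans (by
    refine Finset.sum_congr rfl fun i _ => ?_
    congr 1)
  have h2 : y v = ∑ i, θ (v i) • y (Pi.single i 1) := by
    conv_lhs => rw [h1]
    have h3 : y (∑ i, v i • (Pi.single i 1 : ι → F)) = f (∑ i, v i • (Pi.single i 1 : ι → F)) := rfl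
    rw [h3, map_sum]
    exact Finset.sum_congr rfl fun i _ => hy.2 _ _
  rw [h2]
  ext k
  simp only [Finset.sum_apply, Pi.smul_apply, smul_eq_mul, mulVec, dotProduct, mat, Matrix.of_apply]
  exact Finset.sum_congr rfl fun i _ => mul_comm _ _

theorem o_two {F : Type} [Field F] [Fintype F] (ho : Odd (Fintype.card F)) {M : Type u} [Group M] [Finite M]
    {a b : F} (hab : Aniso a b) (fr : OFrame F (quadFormMinus 3 F a b) M) (y : ↥fr.H) {θ : F ≃+* F}
    (hy : Semi F y.1 θ) (hθ : orderOf θ = 2) :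
    ∃ (A : Matrix ((Fin 3 ⊕ Fin 3) ⊕ Fin 2) ((Fin 3 ⊕ Fin 3) ⊕ Fin 2) F) (z : ↥fr.H), A.det = -1 ∧
      (∀ v, quadFormMinus 3 F a b (A.mulVec v) = quadFormMinus 3 F a b v) ∧ ∀ v, z.1 v = A.mulVec v := by
  classical
  have hθ2 : ∀ x, θ (θ x) = x := by
    intro x
    have h1 : θ ^ 2 = 1 := by rw [← hθ]; exact pow_orderOf_eq_one θ
    have h2 := congrArg (fun s : F ≃+* F => s x) h1
    rw [pow_two] at h2
    exact h2
  obtain ⟨θ', c, hc, hy', hQ⟩ := fr.semi y.1 y.2
  have hinj0 : ∀ v, y.1 v = 0 → v = 0 := by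
    intro v hv
    have h0 : y.1 0 = 0 := by
      have h1 := hy.1 0 0
      rw [add_zero] at h1
      exact left_eq_add.1 h1
    exact y.1.injective (hv.trans h0.symm)
  have hθθ : ∀ x, θ' x = θ x := by
    intro x
    have h1 := hy.2 x (Pi.single (Sum.inr 0) 1)
    rw [hy'.2] at h1
    have h2 : (θ' x - θ x) • y.1 (Pi.single (Sum.inr 0) 1) = 0 := by rw [sub_smul, h1, sub_self]
    rcases smul_eq_zero.1 h2 with h3 | h3
    · exact sub_eq_zero.1 h3
    · exfalso
      have h4 := congrFun (hinj0 _ h3) (Sum.inr 0)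
      rw [Pi.single_eq_same, Pi.zero_apply] at h4
      exact one_ne_zero h4
  replace hQ : ∀ v, quadFormMinus 3 F a b (y.1 v) = c * θ (quadFormMinus 3 F a b v) := by
    intro v
    rw [hQ, hθθ]
  set A := mat y.1 with hA
  set J := gram a b with hJ
  -- the Gram matrix
  have hB : ∀ u v, y.1 u ⬝ᵥ J.mulVec (y.1 v) = c * θ (u ⬝ᵥ J.mulVec v) := by
    intro u v
    rw [← gram_spec, ← gram_spec, ← hy.1, hQ, hQ, hQ, map_sub, map_sub]
    ring
  have hcol : ∀ i, y.1 (Pi.single i 1) = fun k => A k i := fun i => rfl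
  have hAJ : Aᵀ * J * A = c • J.map θ := by
    ext i j
    have h1 := hB (Pi.single i 1) (Pi.single j 1)
    rw [hcol, hcol] at h1
    have h2 : (Aᵀ * J * A) i j = (fun k => A k i) ⬝ᵥ J.mulVec (fun k => A k j) := by
      rw [Matrix.mul_assoc]
      rfl
    rw [h2, h1]
    simp [Matrix.mulVec_single_one, single_dotProduct]
  have hdet : A.det ^ 2 * J.det = c ^ 8 * θ J.det := by
    have h1 := congrArg Matrix.det hAJ
    rw [det_mul, det_mul, det_transpose, det_smul] at h1
    have h2 : (J.map θ).det = θ J.det := by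
      have := RingHom.map_det (θ : F →+* F) J
      exact this.symm
    rw [h2] at h1
    have h3 : Fintype.card ((Fin 3 ⊕ Fin 3) ⊕ Fin 2) = 8 := rfl
    rw [h3] at h1
    rw [← h1]
    ring
  set D := J.det with hD
  have hDsq : ¬ IsSquare D := by rw [hD, hJ, det_gram]; exact not_isSquare ho hab
  have hD0 : D ≠ 0 := fun h => hDsq (h ▸ IsSquare.zero)
  set d := A.det / c ^ 4 with hd
  have hd2 : d ^ 2 * D = θ D := by
    rw [hd, div_pow, ← pow_mul, div_mul_eq_mul_div, hdet]
    field_simp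
    ring
  have hθd2 : (θ d) ^ 2 * θ D = D := by
    have h1 := congrArg θ hd2
    rw [map_mul, map_pow, hθ2] at h1
    exact h1
  have hN : d * θ d = -1 := by
    have h1 : (d * θ d) ^ 2 = 1 := by
      have h2 : (d * θ d) ^ 2 * D = 1 * D := by
        rw [one_mul, mul_pow]
        calc d ^ 2 * θ d ^ 2 * D = θ d ^ 2 * (d ^ 2 * D) := by ring
          _ = D := by rw [hd2, hθd2]
      exact mul_right_cancel₀ hD0 h2
    rcases mul_eq_zero.1 (show (d * θ d - 1) * (d * θ d + 1) = 0 by linear_combination h1) with h3 | h3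
    · exfalso
      replace h3 := sub_eq_zero.1 h3
      obtain ⟨h, hh0, hh⟩ := exists_quot hθ h3
      have h4 : θ (D / h ^ 2) = D / h ^ 2 := by
        have hθh : θ h ≠ 0 := by simpa using hh0
        rw [map_div₀, map_pow, ← hd2, hh]
        have hd0 : d ≠ 0 := by
          rintro h5
          rw [h5, zero_mul] at h3
          exact zero_ne_one h3
        field_simp
      obtain ⟨r, hr⟩ := isSquare_of_fixed ho hθ h4
      apply hDsq
      refine ⟨r * h, ?_⟩
      have h5 : D = r * r * h ^ 2 := by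
        rw [← hr]; field_simp
      rw [h5]; ring
    · exact eq_neg_of_add_eq_zero_left h3
  -- the square
  set n := c * θ c with hn
  have hn0 : n ≠ 0 := by
    rw [hn]
    exact mul_ne_zero hc (by simpa using hc)
  obtain ⟨e, he⟩ := isSquare_of_fixed ho hθ (f := n) (by rw [hn, map_mul, hθ2, mul_comm])
  have he0 : e ≠ 0 := by
    rintro h
    rw [h, zero_mul] at he
    exact hn0 he
  have hsq : ∀ v, y.1 (y.1 v) = (A * A.map θ).mulVec v := by
    intro v
    rw [mat_spec hy (y.1 v), ← Matrix.mulVec_mulVec]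
    congr 1
    ext i
    rw [mat_spec hy v]
    simp only [mulVec, dotProduct, map_sum, map_mul, hθ2, Matrix.map_apply]
    rfl
  let z : ↥fr.H := ⟨scal F _ (Units.mk0 e he0)⁻¹, fr.scal_mem _⟩ * (y * y)
  have hz : ∀ v, z.1 v = (e⁻¹ • (A * A.map θ)).mulVec v := by
    intro v
    have h1 : z.1 v = ((Units.mk0 e he0)⁻¹ : Fˣ) • y.1 (y.1 v) := rfl
    rw [h1, hsq, Matrix.smul_mulVec]
    simp [Units.smul_def]
  refine ⟨e⁻¹ • (A * A.map θ), z, ?_, ?_, hz⟩
  · rw [det_smul, det_mul]
    have h2 : (A.map θ).det = θ A.det := by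
      have := RingHom.map_det (θ : F →+* F) A
      exact this.symm
    have h3 : Fintype.card ((Fin 3 ⊕ Fin 3) ⊕ Fin 2) = 8 := rfl
    rw [h2, h3]
    have h4 : A.det = d * c ^ 4 := by rw [hd]; field_simp
    rw [h4, map_mul, map_pow]
    have h5 : e⁻¹ ^ 8 * (d * c ^ 4 * (θ d * θ c ^ 4)) = (e⁻¹ * e⁻¹ * n) ^ 4 * (d * θ d) := by rw [hn]; ring
    rw [h5, hN, he]
    field_simp
  · intro v
    rw [← hz]
    have h1 : z.1 v = e⁻¹ • y.1 (y.1 v) := by
      rw [hz, hsq, Matrix.smul_mulVec]
    have h2 : ∀ (t : F) (w : (Fin 3 ⊕ Fin 3) ⊕ Fin 2 → F), quadFormMinus 3 F a b (t • w) =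
        t ^ 2 * quadFormMinus 3 F a b w := by
      intro t w
      simp only [quadFormMinus, Pi.smul_apply, smul_eq_mul, Fin.sum_univ_three]
      ring
    rw [h1, h2, hQ, hQ, map_mul, hθ2]
    have h3 : e⁻¹ ^ 2 * (c * (θ c * quadFormMinus 3 F a b v)) = (e⁻¹ ^ 2 * n) * quadFormMinus 3 F a b v := by
      rw [hn]; ring
    rw [h3, he]
    field_simp

end Cfsg.Agent.H326.S69
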